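import Groth.Agent.RegImmKindLib.Mor
import Groth.Agent.CommAlgDim.CM
import Groth.Agent.BlowPtLib.Local
import Groth.Agent.BlowPtLib.Point
import Groth.Agent.QReg16Lib.Basic

/-!
# Charts at a closed regular point
-/

set_option autoImplicit false
set_option linter.style.haveILetI false
set_option maxHeartbeats 1000000
set_option backward.isDefEq.respectTransparency false
set_option backward.isDefEq.respectTransparency.types false

universe u

open CategoryTheory CategoryTheory.Limits AlgebraicGeometry TopologicalSpace Opposite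
open Groth.Agent.QReg16Lib (QR)

noncomputable section

namespace PointBlowChowLib

/-- An affine chart in which a closed regular point is cut out by a regular sequence of length the dimension. -/
theorem exists_point_chart {X : Scheme.{u}} [IsLocallyNoetherian X] (P : X) (hP : IsClosed ({P} : Set X))
    [IsRegularLocalRing (X.presheaf.stalk P)] (d : ℕ) (hd : ringKrullDim (X.presheaf.stalk P) = d) :
    ∃ (U : X.affineOpens) (_ : P ∈ U.1) (a : Fin d → Γ(X, U.1)), FVLib.NR a ∧
      Ideal.span (Set.range a) = (Scheme.IdealSheafData.vanishingIdeal ⟨{P}, hP⟩).ideal U := by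
  let 𝓙 := Scheme.IdealSheafData.vanishingIdeal (⟨{P}, hP⟩ : Closeds X)
  let i := 𝓙.subschemeι
  obtain ⟨z, hz⟩ : P ∈ Set.range i := by
    rw [Scheme.IdealSheafData.range_subschemeι, Scheme.IdealSheafData.coe_support_vanishingIdeal]
    exact rfl
  have hd' : ringKrullDim (X.presheaf.stalk (i z)) = d := by rw [hz]; exact hd
  haveI : IsRegularLocalRing (X.presheaf.stalk (i z)) := by rw [hz]; infer_instance
  have hmem : ∀ x : X, x ∈ ((⟨{P}, hP⟩ : Closeds X) : Set X) ↔ x = i z := fun x => by rw [hz]; exact Iff.rfl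
  have hker : ∀ (U : X.affineOpens) (hzU : i z ∈ U.1),
      RingHom.ker (i.app U.1).hom = (U.2.primeIdealOf ⟨i z, hzU⟩).asIdeal := fun U hzU => by
    refine ((Scheme.Hom.ker_apply i U).symm.trans (congrArg (fun I => Scheme.IdealSheafData.ideal I U)
      𝓙.ker_subschemeι)).trans ?_
    exact BlowPtLib.vanishingIdeal_eq_prime _ U (i z) hzU fun x _ => hmem x
  letI := Ideal.Quotient.field (IsLocalRing.maximalIdeal (X.presheaf.stalk (i z)))
  obtain ⟨U₁, hU₁, hzU₁, -⟩ := exists_isAffineOpen_mem_and_subset (x := i z) (U := ⊤) trivial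
  have hmax : RingHom.ker (i.stalkMap z).hom = IsLocalRing.maximalIdeal (X.presheaf.stalk (i z)) := by
    letI := X.presheaf.algebra_section_stalk (⟨i z, hzU₁⟩ : U₁)
    haveI : IsLocalization.AtPrime (X.presheaf.stalk (i z)) (hU₁.primeIdealOf ⟨i z, hzU₁⟩).asIdeal :=
      hU₁.isLocalization_stalk ⟨i z, hzU₁⟩
    rw [(RegImmKindLib.ker_stalkMap i hU₁ (hU₁.preimage i) (i.app_surjective U₁ hU₁) z hzU₁).1,
      hker ⟨U₁, hU₁⟩ hzU₁]
    exact IsLocalization.AtPrime.map_eq_maximalIdeal _ _
  obtain ⟨ls, hls, hlsm⟩ := CommAlgDim.exists_isRegular_of_regular_quotient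
    (J := IsLocalRing.maximalIdeal (X.presheaf.stalk (i z)))
  obtain ⟨U, hzU, -, rs, hrs, hrsk⟩ :=
    (RegImmKindLib.isRegularImmersionAt_iff i .regular z).2 ⟨ls, hls, hmax.trans hlsm.symm⟩
  have hp : Ideal.ofList rs = (U.2.primeIdealOf ⟨i z, hzU⟩).asIdeal := hrsk.symm.trans (hker U hzU)
  have hlen : rs.length = d := by
    letI := X.presheaf.algebra_section_stalk (⟨i z, hzU⟩ : U.1)
    haveI : IsLocalization.AtPrime (X.presheaf.stalk (i z)) (U.2.primeIdealOf ⟨i z, hzU⟩).asIdeal :=
      U.2.isLocalization_stalk ⟨i z, hzU⟩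
    haveI : Module.Flat Γ(X, U.1) (X.presheaf.stalk (i z)) :=
      IsLocalization.flat (X.presheaf.stalk (i z)) (U.2.primeIdealOf ⟨i z, hzU⟩).asIdeal.primeCompl
    have hmap : Ideal.ofList (rs.map (algebraMap Γ(X, U.1) (X.presheaf.stalk (i z)))) =
        IsLocalRing.maximalIdeal (X.presheaf.stalk (i z)) := by
      rw [← Ideal.map_ofList, hp]
      exact IsLocalization.AtPrime.map_eq_maximalIdeal _ _
    have hreg : RingTheory.Sequence.IsRegular (X.presheaf.stalk (i z))
        (rs.map (algebraMap Γ(X, U.1) (X.presheaf.stalk (i z)))) :=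
      ⟨RingTheory.Sequence.IsWeaklyRegular.of_flat (S := X.presheaf.stalk (i z)) hrs.toIsWeaklyRegular, by
        rw [hmap, smul_eq_mul, Ideal.mul_top]
        exact (IsLocalRing.maximalIdeal.isMaximal _).ne_top.symm⟩
    have h := ringKrullDim_add_length_eq_ringKrullDim_of_isRegular _ hreg
    rw [ringKrullDim_eq_of_ringEquiv (Ideal.quotEquivOfEq hmap), ringKrullDim_eq_zero_of_field, zero_add,
      List.length_map, hd'] at h
    exact_mod_cast h
  subst hlen
  refine ⟨U, hz ▸ hzU, rs.get, (FVLib.nr_iff _).2 (by rw [List.ofFn_get]; exact hrs.toIsWeaklyRegular), ?_⟩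
  refine Eq.trans ?_ (hp.trans (BlowPtLib.vanishingIdeal_eq_prime _ U (i z) hzU fun x _ => hmem x).symm)
  exact congrArg Ideal.span (Set.ext fun x => by simp [List.mem_iff_get])

/-- The residue ring of a closed point of a scheme of finite type over an algebraically closed field. -/
theorem exists_const_sub_mem {k : Type u} [Field k] [IsAlgClosed k] {X : Scheme.{u}}
    (q : X ⟶ Spec (CommRingCat.of k)) [LocallyOfFiniteType q] (P : X) (hP : IsClosed ({P} : Set X))
    (U : X.affineOpens) (hPU : P ∈ U.1) (x : Γ(X, U.1)) :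
    ∃ c : k, x - ((X.presheaf.map (homOfLE (le_top : U.1 ≤ ⊤)).op).hom.comp (ProjUP.toGlobal q)) c ∈
      (Scheme.IdealSheafData.vanishingIdeal ⟨{P}, hP⟩).ideal U := by
  let φ := (X.presheaf.map (homOfLE (le_top : U.1 ≤ ⊤)).op).hom.comp (ProjUP.toGlobal q)
  let p := (U.2.primeIdealOf ⟨P, hPU⟩).asIdeal
  rw [BlowPtLib.vanishingIdeal_eq_prime _ U P hPU fun x _ => Iff.rfl]
  haveI : p.IsMaximal := by
    refine (PrimeSpectrum.isClosed_singleton_iff_isMaximal _).1 ?_
    have e : U.2.fromSpec ⁻¹' {P} = {U.2.primeIdealOf ⟨P, hPU⟩} := by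
      ext z
      rw [Set.mem_preimage, Set.mem_singleton_iff, Set.mem_singleton_iff]
      constructor
      · intro hz'
        exact U.2.fromSpec.isOpenEmbedding.injective (hz'.trans (U.2.fromSpec_primeIdealOf ⟨P, hPU⟩).symm)
      · rintro rfl
        exact U.2.fromSpec_primeIdealOf ⟨P, hPU⟩
    rw [← e]
    exact hP.preimage U.2.fromSpec.continuous
  letI := Ideal.Quotient.field p
  have hft : φ.FiniteType := by
    have h := (HasRingHomProperty.appLE (P := @LocallyOfFiniteType) q inferInstance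
      ⟨⊤, isAffineOpen_top _⟩ U le_top)
    have e : φ = (q.appLE ⊤ U.1 le_top).hom.comp (Scheme.ΓSpecIso (CommRingCat.of k)).inv.hom := rfl
    rw [e]
    exact h.comp (RingHom.FiniteType.of_surjective _
      ((ConcreteCategory.isIso_iff_bijective (Scheme.ΓSpecIso (CommRingCat.of k)).inv).1 inferInstance).2)
  letI : Algebra k (Γ(X, U.1) ⧸ p) := ((Ideal.Quotient.mk p).comp φ).toAlgebra
  haveI : Algebra.FiniteType k (Γ(X, U.1) ⧸ p) :=
    (RingHom.FiniteType.of_surjective (Ideal.Quotient.mk p) Ideal.Quotient.mk_surjective).comp hft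
  haveI : Module.Finite k (Γ(X, U.1) ⧸ p) := finite_of_finite_type_of_isJacobsonRing k _
  obtain ⟨c, hc⟩ := (IsAlgClosed.algebraMap_bijective_of_isIntegral (k := k) (K := Γ(X, U.1) ⧸ p)).2
    (Ideal.Quotient.mk p x)
  exact ⟨c, (Ideal.Quotient.eq.1 hc.symm)⟩

/-- A regular chart has no homogeneous relations with constant coefficients. -/
theorem eq_zero_of_eval_mem {k : Type u} [Field k] {R : Type u} [CommRing R] (φ : k →+* R) {r : ℕ} {a : Fin r → R}
    (ha : QR a) (hne : Ideal.span (Set.range a) ≠ ⊤) (d : ℕ) (F : MvPolynomial (Fin r) k) (hF : F.IsHomogeneous d)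
    (h : MvPolynomial.eval₂ φ a F ∈ Ideal.span (Set.range a) ^ (d + 1)) : F = 0 := by
  ext s
  by_contra hs
  have h1 := ha d (MvPolynomial.map φ F) (hF.map φ) (by rwa [MvPolynomial.eval_map]) s
  rw [MvPolynomial.coeff_map] at h1
  exact hne (Ideal.eq_top_of_isUnit_mem _ h1 ((isUnit_iff_ne_zero.2 (by simpa using hs)).map φ))

/-- A quasi-regular family from a regular one. -/
theorem qr_rev {R : Type u} [CommRing R] {r : ℕ} {f : Fin r → R} (hf : FVLib.NR f) :
    QR (fun i => f (Fin.rev i)) ∧ Ideal.span (Set.range fun i => f (Fin.rev i)) = Ideal.span (Set.range f) := by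
  refine ⟨Groth.Agent.QReg16Lib.qr_of_nr' _ (Groth.Agent.QReg16Lib.nr'_of_nr _ hf), ?_⟩
  rw [show (fun i => f (Fin.rev i)) = f ∘ Fin.rev from rfl, Fin.rev_surjective.range_comp]

end PointBlowChowLib
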