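import Groth.Agent.RatCurveChainLib.Main
import Groth.Agent.AlbLib.Extend
import Groth.Agent.HurwitzLib.SmoothCurve

/-!
# Zero-cycles of closed points of projective space
-/

set_option autoImplicit false
set_option maxHeartbeats 1000000
set_option linter.style.haveILetI false
set_option backward.isDefEq.respectTransparency false

universe u

open AlgebraicGeometry CategoryTheory CategoryTheory.Limits IsLocalRing TopologicalSpace

noncomputable section

namespace PointBlowChowLib

open RatCurveChainLib (pt)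

variable {k : Type u} [Field k]

/-- The standard charts of projective space. -/
theorem exists_chart (n : ℕ) (i : Fin (n + 1)) :
    ∃ j : Spec (CommRingCat.of (MvPolynomial (Fin n) k)) ⟶ CohB1.ProjSpace n k,
    ∃ _ : IsOpenImmersion j, j.opensRange = QCohLib.stdOpen n k i ∧
      j ≫ CohB1.ProjSpace.toSpec n k =
        Spec.map (CommRingCat.ofHom (algebraMap k (MvPolynomial (Fin n) k))) := by
  let X₀ : MvPolynomial (Fin (n + 1)) k := MvPolynomial.X i
  have hX : X₀ ∈ CohB1.polyGrading n k 1 := GradedCechLib.X_mem n k i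
  let e := RingEquiv.ofBijective _ (GenusZeroLib.chartPoly_bijective n k i)
  refine ⟨Spec.map e.symm.toCommRingCatIso.hom ≫ Proj.awayι (CohB1.polyGrading n k) X₀ hX one_pos, inferInstance, ?_, ?_⟩
  · rw [Scheme.Hom.opensRange_comp_of_isIso, Proj.opensRange_awayι]
    rfl
  show (Spec.map e.symm.toCommRingCatIso.hom ≫ Proj.awayι (CohB1.polyGrading n k) X₀ hX one_pos) ≫
    Proj.toSpecZero (CohB1.polyGrading n k) ≫
      Spec.map (CommRingCat.ofHom (algebraMap k (CohB1.polyGrading n k 0))) = _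
  rw [Category.assoc, Proj.awayι_toSpecZero_assoc, ← Spec.map_comp, ← Spec.map_comp]
  refine congrArg Spec.map (CommRingCat.hom_ext (RingHom.ext fun c => ?_))
  show e.symm (GradedCechLib.cst n k (MvPolynomial.X i) c) = MvPolynomial.C c
  rw [RingEquiv.symm_apply_eq]
  show _ = GenusZeroLib.chartPoly n k i (MvPolynomial.C c)
  simp [GenusZeroLib.chartPoly]

/-- A map of the affine line to a proper scheme extends to the projective line. -/
theorem exists_extend_line {Y : Scheme.{u}} (p : Y ⟶ Spec (CommRingCat.of k)) [IsProper p]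
    (h : Spec (CommRingCat.of (MvPolynomial (Fin 1) k)) ⟶ Y)
    (hh : h ≫ p = Spec.map (CommRingCat.ofHom (algebraMap k (MvPolynomial (Fin 1) k)))) :
    ∃ g : CohB1.ProjSpace 1 k ⟶ Y, g ≫ p = CohB1.ProjSpace.toSpec 1 k ∧ Set.range h ⊆ Set.range g := by
  let P := CohB1.ProjSpace 1 k
  letI : P.Over (Spec (CommRingCat.of k)) := ⟨CohB1.ProjSpace.toSpec 1 k⟩
  haveI : Smooth (P ↘ Spec (CommRingCat.of k)) := GenusZeroLib.smooth_toSpec 1 k
  haveI : IsIntegral P := GenusZeroLib.isIntegral_projSpace k 1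
  have hdim : topologicalKrullDim P = 1 := (GenusZeroLib.dim_projSpace k 1).trans (by rfl)
  obtain ⟨j, hj, hrange, hjq⟩ := exists_chart (k := k) 1 0
  haveI := hj
  let O := j.opensRange
  let e := IsOpenImmersion.isoOfRangeEq j O.ι O.range_ι.symm
  have he : e.inv ≫ j = O.ι := IsOpenImmersion.isoOfRangeEq_inv_fac _ _ _
  obtain ⟨w, -, hw⟩ := EdP1Lib.exists_std k (0 : Fin 2)
  let ξ : P := w (closedPoint k)
  have hξ : ∀ y : P, y ∉ O ↔ y = ξ := fun y =>
    ⟨fun hy => EdP1Lib.unique_zero k 0 (fun h' => hy (hrange.ge h')) (hw _),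
      fun e' h' => hw _ (e' ▸ hrange.le h' : ξ ∈ QCohLib.stdOpen 1 k 0)⟩
  have hξc : IsClosed ({ξ} : Set P) := by
    rw [show ({ξ} : Set P) = (O : Set P)ᶜ from Set.ext fun y => (hξ y).symm]
    exact O.2.isClosed_compl
  haveI := HurwitzLib.dvr_stalk_closed (k := k) hdim hξc
  have hgen : genericPoint P ∈ O := ((genericPoint_spec P).mem_open_set_iff O.2).2
    ⟨j (Classical.choice (inferInstance : Nonempty (Spec (CommRingCat.of (MvPolynomial (Fin 1) k))))),
      trivial, ⟨_, rfl⟩⟩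
  obtain ⟨O', hle, g', hmem, hg', hgg⟩ := AlbLib.exists_extend_finite (CohB1.ProjSpace.toSpec 1 k) p
    {ξ} (fun z hz => by rw [Finset.mem_singleton] at hz; subst hz; assumption) O hgen (e.inv ≫ h)
    (by rw [Category.assoc, hh, ← hjq, ← Category.assoc, he])
  have htop : (⊤ : P.Opens) ≤ O' := fun y _ => by
    by_cases hy : y ∈ O
    · exact hle hy
    · exact ((hξ y).1 hy) ▸ hmem ξ (Finset.mem_singleton_self _)
  refine ⟨P.topIso.inv ≫ P.homOfLE htop ≫ g', ?_, ?_⟩
  · simp only [Category.assoc]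
    rw [hg', Scheme.homOfLE_ι_assoc, Scheme.toIso_inv_ι_assoc]
  · rintro _ ⟨t, rfl⟩
    refine ⟨j t, ?_⟩
    have key : h = j ≫ P.topIso.inv ≫ P.homOfLE htop ≫ g' := by
      have h1 : j = e.hom ≫ O.ι := (IsOpenImmersion.isoOfRangeEq_hom_fac _ _ _).symm
      have h2 : O.ι ≫ P.topIso.inv = P.homOfLE le_top := by
        rw [← cancel_mono (⊤ : P.Opens).ι, Category.assoc, Scheme.toIso_inv_ι, Category.comp_id,
          Scheme.homOfLE_ι]
      rw [h1, Category.assoc, ← Category.assoc O.ι, h2, Scheme.homOfLE_homOfLE_assoc, hgg,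
        Iso.hom_inv_id_assoc]
    exact (congrArg (fun r : _ ⟶ Y => r t) key).symm

variable [IsAlgClosed k]

/-- Closed points of affine space are joined by lines. -/
theorem exists_line {m : ℕ} {a b : Spec (CommRingCat.of (MvPolynomial (Fin m) k))}
    (ha : IsClosed ({a} : Set (Spec (CommRingCat.of (MvPolynomial (Fin m) k)))))
    (hb : IsClosed ({b} : Set (Spec (CommRingCat.of (MvPolynomial (Fin m) k))))) :
    ∃ h : Spec (CommRingCat.of (MvPolynomial (Fin 1) k)) ⟶ Spec (CommRingCat.of (MvPolynomial (Fin m) k)),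
      h ≫ Spec.map (CommRingCat.ofHom (algebraMap k (MvPolynomial (Fin m) k))) =
        Spec.map (CommRingCat.ofHom (algebraMap k (MvPolynomial (Fin 1) k))) ∧
      a ∈ Set.range h ∧ b ∈ Set.range h := by
  haveI := (PrimeSpectrum.isClosed_singleton_iff_isMaximal a).1 ha
  haveI := (PrimeSpectrum.isClosed_singleton_iff_isMaximal b).1 hb
  obtain ⟨u, hu⟩ := (MvPolynomial.isMaximal_iff_eq_vanishingIdeal_singleton (I := a.asIdeal)).1 inferInstance
  obtain ⟨v, hv⟩ := (MvPolynomial.isMaximal_iff_eq_vanishingIdeal_singleton (I := b.asIdeal)).1 inferInstance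
  let ψ : MvPolynomial (Fin m) k →ₐ[k] MvPolynomial (Fin 1) k :=
    MvPolynomial.aeval fun l => MvPolynomial.C (u l) + MvPolynomial.C (v l - u l) * MvPolynomial.X 0
  refine ⟨Spec.map (CommRingCat.ofHom ψ.toRingHom), ?_, ?_⟩
  · rw [← Spec.map_comp]
    exact congrArg Spec.map (CommRingCat.hom_ext (RingHom.ext fun c => ψ.commutes c))
  have key : ∀ (t : k) (w : Fin m → k) (hw : ∀ l, u l + (v l - u l) * t = w l)
      (z : Spec (CommRingCat.of (MvPolynomial (Fin m) k))), z.asIdeal = MvPolynomial.vanishingIdeal k {w} →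
      z ∈ Set.range (Spec.map (CommRingCat.ofHom ψ.toRingHom)) := by
    intro t w hw z hz
    haveI : (MvPolynomial.vanishingIdeal k {fun _ : Fin 1 => t}).IsMaximal :=
      MvPolynomial.isMaximal_iff_eq_vanishingIdeal_singleton.2 ⟨_, rfl⟩
    refine ⟨⟨MvPolynomial.vanishingIdeal k {fun _ : Fin 1 => t}, Ideal.IsMaximal.isPrime inferInstance⟩,
      PrimeSpectrum.ext ?_⟩
    rw [hz]
    refine Ideal.ext fun q => ?_
    show ψ q ∈ MvPolynomial.vanishingIdeal k {fun _ : Fin 1 => t} ↔ _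
    rw [MvPolynomial.mem_vanishingIdeal_singleton_iff, MvPolynomial.mem_vanishingIdeal_singleton_iff,
      MvPolynomial.comp_aeval_apply]
    simp [hw]
  exact ⟨key 0 u (fun l => by simp) a hu, key 1 v (fun l => by ring) b hv⟩

variable [CharZero k]

/-- Closed points of projective space are rationally equivalent. -/
theorem pn_ratEquiv {m : ℕ} {δ : CohB1.ProjSpace m k → ℤ}
    (hδ : Cyc.DeltaCompat (CohB1.ProjSpace.toSpec m k) δ (fun _ => 0))
    {a b : CohB1.ProjSpace m k} (ha : IsClosed ({a} : Set (CohB1.ProjSpace m k)))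
    (hb : IsClosed ({b} : Set (CohB1.ProjSpace m k))) : Cyc.RatEquiv δ 0 (pt a) (pt b) := by
  haveI : IsProper (CohB1.ProjSpace.toSpec m k) := ProjDegLib.toSpec_isProper k m
  haveI : IsIntegral (CohB1.ProjSpace m k) := GenusZeroLib.isIntegral_projSpace k m
  have hS := CycBivLib.isSetup_of_lft (CohB1.ProjSpace.toSpec m k) CycC1Lib.isSetup_field hδ
  have chart : ∀ (i : Fin (m + 1)) (a b : CohB1.ProjSpace m k), IsClosed ({a} : Set (CohB1.ProjSpace m k)) →
      IsClosed ({b} : Set (CohB1.ProjSpace m k)) → a ∈ QCohLib.stdOpen m k i → b ∈ QCohLib.stdOpen m k i →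
      Cyc.RatEquiv δ 0 (pt a) (pt b) := by
    intro i a b ha hb hai hbi
    obtain ⟨j, hj, hrange, hjq⟩ := exists_chart (k := k) m i
    haveI := hj
    obtain ⟨a', rfl⟩ : ∃ a', j a' = a := hrange.ge hai
    obtain ⟨b', rfl⟩ : ∃ b', j b' = b := hrange.ge hbi
    have hcl : ∀ z, IsClosed ({j z} : Set (CohB1.ProjSpace m k)) → IsClosed ({z} : Set _) := fun z hz => by
      rw [show ({z} : Set _) = j ⁻¹' {j z} from Set.ext fun v =>
        ⟨fun h => congrArg _ h, fun h => j.isOpenEmbedding.injective h⟩]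
      exact hz.preimage j.continuous
    obtain ⟨h, hh, ⟨s, hs⟩, ⟨t, ht⟩⟩ := exists_line (hcl a' ha) (hcl b' hb)
    obtain ⟨g, hg, hsub⟩ := exists_extend_line (CohB1.ProjSpace.toSpec m k) (h ≫ j)
      (by rw [Category.assoc, hjq, hh])
    exact RatCurveChainLib.curve_ratEquiv (CohB1.ProjSpace.toSpec m k) hδ g hg ha hb
      (hsub ⟨s, by rw [Scheme.Hom.comp_apply, hs]⟩) (hsub ⟨t, by rw [Scheme.Hom.comp_apply, ht]⟩)
  have hcov : ∀ x : CohB1.ProjSpace m k, ∃ i, x ∈ QCohLib.stdOpen m k i := fun x =>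
    TopologicalSpace.Opens.mem_iSup.mp ((QCohLib.iSup_stdOpen m k).ge (TopologicalSpace.Opens.mem_top x))
  obtain ⟨i, hi⟩ := hcov a
  obtain ⟨l, hl⟩ := hcov b
  haveI : JacobsonSpace (CohB1.ProjSpace m k) := LocallyOfFiniteType.jacobsonSpace (CohB1.ProjSpace.toSpec m k)
  obtain ⟨c, hc, hcc⟩ := nonempty_inter_closedPoints
    (Z := ((QCohLib.stdOpen m k i : Set (CohB1.ProjSpace m k)) ∩ (QCohLib.stdOpen m k l : Set _)))
    ⟨genericPoint _, ((genericPoint_spec _).mem_open_set_iff (QCohLib.stdOpen m k i).2).2 ⟨a, trivial, hi⟩,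
      ((genericPoint_spec _).mem_open_set_iff (QCohLib.stdOpen m k l).2).2 ⟨b, trivial, hl⟩⟩
    ((QCohLib.stdOpen m k i).2.inter (QCohLib.stdOpen m k l).2).isLocallyClosed
  exact CycCommLib.ratEquiv_trans hS (chart i a c ha hcc hi hc.1) (chart l c b hcc hb hc.2 hl)

end PointBlowChowLib
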