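import Groth.Agent.PointBlowChowLib.Lines
import Groth.Agent.PointBlowChowLib.Chart
import Groth.Agent.EffCartLib.Basic
import Groth.Agent.BlowUpLib.Strict
import Groth.Agent.BlowUpLib.Props

/-!
# Zero-cycle classes and the blow-up of a point
-/

set_option autoImplicit false
set_option maxHeartbeats 1000000
set_option linter.style.haveILetI false
set_option backward.isDefEq.respectTransparency false

universe u

open AlgebraicGeometry CategoryTheory CategoryTheory.Limits IsLocalRing TopologicalSpace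

noncomputable section

namespace PointBlowChowLib

open RatCurveChainLib (pt pt_self pt_ne pt_mem_zk)

variable {k : Type u} [Field k] [IsAlgClosed k]

/-- Push-forward of a multiple of a closed point. -/
theorem map_zsmul_pt {X Y : Scheme.{u}} (g : Y ⟶ X) {q : Y ⟶ Spec (CommRingCat.of k)} (p : X ⟶ Spec (CommRingCat.of k))
    (hg : g ≫ p = q) [IsProper g] [LocallyOfFiniteType p] [LocallyOfFiniteType q] {δY : Y → ℤ} {δ : X → ℤ}
    (hδY : Cyc.DeltaCompat q δY (fun _ => 0)) (hδ : Cyc.DeltaCompat p δ (fun _ => 0))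
    (n : ℤ) {y : Y} (hy : IsClosed ({y} : Set Y)) :
    AlgebraicCycle.map g δY δ (n • pt y) = n • pt (g y) := by
  classical
  refine DFunLike.ext _ _ fun w => ?_
  have h := DFunLike.congr_fun (RatCurveChainLib.map_pt g p hg hδY hδ hy) w
  change ∑ᶠ a ∈ (g.base : Y → X) ⁻¹' {w}, pt y a * (AlgebraicCycle.mapCoeff g δY δ a : ℤ) = pt (g y) w at h
  show ∑ᶠ a ∈ (g.base : Y → X) ⁻¹' {w}, (n • pt y) a * (AlgebraicCycle.mapCoeff g δY δ a : ℤ) = _
  simp only [Function.locallyFinsuppWithin.coe_zsmul, Pi.smul_apply, smul_eq_mul, mul_assoc]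
  rw [← h, finsum_mem_def, finsum_mem_def, mul_finsum' _ n (by
    refine (Set.finite_singleton y).subset fun a ha => ?_
    by_contra hay
    refine ha ?_
    rw [Set.indicator_apply]
    split_ifs
    · rw [pt_ne (show a ≠ y from hay), zero_mul]
    · rfl)]
  refine finsum_congr fun a => ?_
  by_cases ha : a ∈ (g.base : Y → X) ⁻¹' {w}
  · rw [Set.indicator_of_mem ha, Set.indicator_of_mem ha]
  · rw [Set.indicator_of_notMem ha, Set.indicator_of_notMem ha, mul_zero]

variable [CharZero k] {X X' : Scheme.{u}} (p : X ⟶ Spec (CommRingCat.of k)) [IsProper p] [Smooth p] [IsIntegral X]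
  {x : X} (hx : IsClosed ({x} : Set X)) (hdim : 1 ≤ topologicalKrullDim X) {π : X' ⟶ X}
  (hπ : BlowUp.IsBlowUp π (Scheme.IdealSheafData.vanishingIdeal ⟨{x}, hx⟩))

include hx hdim in
theorem genericPoint_ne : genericPoint X ≠ x := by
  intro h
  have h1 : (Set.univ : Set X) = {x} := by rw [← (genericPoint_spec X).def, h, hx.closure_eq]
  haveI : Subsingleton X := ⟨fun a b => by
    have ha : a ∈ ({x} : Set X) := h1 ▸ trivial
    have hb : b ∈ ({x} : Set X) := h1 ▸ trivial
    exact (show a = x from ha).trans (show b = x from hb).symm⟩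
  have h2 : topologicalKrullDim X ≤ 0 := by
    haveI : Subsingleton (IrreducibleCloseds X) := ⟨fun A B => IrreducibleCloseds.ext (Set.ext fun z => by
      obtain ⟨a, ha⟩ := A.2.nonempty
      obtain ⟨b, hb⟩ := B.2.nonempty
      exact ⟨fun _ => Subsingleton.elim b z ▸ hb, fun _ => Subsingleton.elim a z ▸ ha⟩)⟩
    exact Order.krullDim_nonpos_of_subsingleton
  exact absurd (hdim.trans h2) (by norm_num)

include hπ hdim in
theorem exists_exceptional_iso [IsProper π] : ∃ (m : ℕ) (h : CohB1.ProjSpace m k ⟶ X'),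
    IsProper h ∧ h ≫ π ≫ p = CohB1.ProjSpace.toSpec m k ∧ Set.range h = π ⁻¹' {x} := by
  letI : X.Over (Spec (CommRingCat.of k)) := ⟨p⟩
  haveI : Smooth (X ↘ Spec (CommRingCat.of k)) := ‹Smooth p›
  haveI : IsLocallyNoetherian X := LocallyOfFiniteType.isLocallyNoetherian p
  haveI : IsRegularLocalRing (X.presheaf.stalk x) := CurveVBLib.regular_stalk (k := k) x
  have hd := (IsRegularLocalRing.spanFinrank_maximalIdeal (R := X.presheaf.stalk x)).symm
  obtain ⟨U, hxU, a, hnr, ha⟩ := exists_point_chart x hx _ hd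
  obtain ⟨m, hm⟩ : ∃ m, Submodule.spanFinrank (maximalIdeal (X.presheaf.stalk x)) = m + 1 := by
    refine ⟨_, (Nat.succ_pred_eq_of_ne_zero fun h0 => ?_).symm⟩
    have h1 : (U.2.primeIdealOf ⟨x, hxU⟩).asIdeal = ⊥ := by
      rw [← BlowPtLib.vanishingIdeal_eq_prime ⟨{x}, hx⟩ U x hxU fun z _ => Iff.rfl, ← ha]
      haveI : IsEmpty (Fin (Submodule.spanFinrank (maximalIdeal (X.presheaf.stalk x)))) := by rw [h0]; infer_instance
      rw [Set.range_eq_empty, Ideal.span_empty]
    have hη : genericPoint X ∈ U.1 := ((genericPoint_spec X).mem_open_set_iff U.1.2).2 ⟨x, trivial, hxU⟩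
    have h5 : U.2.primeIdealOf ⟨x, hxU⟩ = U.2.primeIdealOf ⟨genericPoint X, hη⟩ := by
      refine PrimeSpectrum.ext (h1.trans ?_)
      have := (PrimeSpectrum.le_iff_specializes (U.2.primeIdealOf ⟨genericPoint X, hη⟩) (U.2.primeIdealOf ⟨x, hxU⟩)).2
        (U.2.fromSpec.isOpenEmbedding.isInducing.specializes_iff.1 (by
          rw [U.2.fromSpec_primeIdealOf, U.2.fromSpec_primeIdealOf]; exact (genericPoint_spec X).specializes trivial))
      exact (le_bot_iff.1 ((show (U.2.primeIdealOf ⟨genericPoint X, hη⟩).asIdeal ≤ (U.2.primeIdealOf ⟨x, hxU⟩).asIdeal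
        from this).trans h1.le)).symm
    have h6 := congrArg (fun r => U.2.fromSpec r) h5
    rw [U.2.fromSpec_primeIdealOf, U.2.fromSpec_primeIdealOf] at h6
    exact genericPoint_ne hx hdim (show x = genericPoint X from h6).symm
  obtain ⟨a', hnr', ha'⟩ : ∃ a' : Fin (m + 1) → Γ(X, U.1), FVLib.NR a' ∧
      Ideal.span (Set.range a') = (Scheme.IdealSheafData.vanishingIdeal ⟨{x}, hx⟩).ideal U := by
    rw [← hm]; exact ⟨a, hnr, ha⟩
  obtain ⟨hqr, hspan⟩ := qr_rev hnr'
  let 𝓙 := Scheme.IdealSheafData.vanishingIdeal (⟨{x}, hx⟩ : Closeds X)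
  have hne : Ideal.span (Set.range fun i => a' (Fin.rev i)) ≠ ⊤ := by
    rw [hspan, ha', BlowPtLib.vanishingIdeal_eq_prime _ U x hxU fun z _ => Iff.rfl]
    exact (U.2.primeIdealOf ⟨x, hxU⟩).isPrime.ne_top
  have hsupp : ∀ z, z ∈ 𝓙.support → z ∈ U.1 := fun z hz => by
    rw [← SetLike.mem_coe, Scheme.IdealSheafData.coe_support_vanishingIdeal] at hz
    exact (show z = x from hz) ▸ hxU
  obtain ⟨φ, hφ, hφk, -⟩ := BlowPtLib.exists_embedding (𝓙 := 𝓙) (m := m) hπ p U rfl
    hsupp (fun i => a' (Fin.rev i)) (hspan.trans ha') (exists_const_sub_mem _ x hx U hxU)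
    (fun d F hF h => eq_zero_of_eval_mem _ hqr hne d F hF (by rwa [hspan.trans ha']))
  haveI := hφ
  refine ⟨m, inv φ ≫ (𝓙.comap π).subschemeι, inferInstance, ?_, ?_⟩
  · rw [Category.assoc, IsIso.inv_comp_eq]
    exact hφk.symm
  · have h1 : Set.range (inv φ ≫ (𝓙.comap π).subschemeι) = Set.range (𝓙.comap π).subschemeι := by
      refine Eq.trans ?_ ((inv φ).surjective.range_comp ⇑(𝓙.comap π).subschemeι)
      exact congrArg Set.range (funext fun z => Scheme.Hom.comp_apply _ _ z)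
    rw [h1, Scheme.IdealSheafData.range_subschemeι, Scheme.IdealSheafData.support_comap]
    rw [TopologicalSpace.Closeds.coe_preimage, Scheme.IdealSheafData.coe_support_vanishingIdeal]
    rfl

include hπ in
omit [IsIntegral X] in
/-- Off the centre the blow-up is a local isomorphism. -/
theorem off_center (e : X') (he : π e ≠ x) :
    Function.Bijective (π.residueFieldMap e).hom ∧ ∀ e', π e' = π e → e' = e := by
  let V : X.Opens := ⟨({x} : Set X)ᶜ, hx.isOpen_compl⟩
  haveI : IsIso (π ∣_ V) := EffCartLib.isIso_off_center _ π hπ V fun z hz => by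
    show z ∉ ((Scheme.IdealSheafData.vanishingIdeal (⟨{x}, hx⟩ : Closeds X)).support : Set X)
    rw [Scheme.IdealSheafData.coe_support_vanishingIdeal]
    exact hz
  haveI : IsPreimmersion ((π ⁻¹ᵁ V).ι ≫ π) := by rw [← morphismRestrict_ι]; infer_instance
  refine ⟨?_, fun e' he' => ?_⟩
  · let w : ↥(π ⁻¹ᵁ V) := ⟨e, he⟩
    have h1 := CycPushLib.residueFieldMap_bijective ((π ⁻¹ᵁ V).ι ≫ π) w
    have h2 := CycPushLib.residueFieldMap_bijective (π ⁻¹ᵁ V).ι w
    rw [Scheme.residueFieldMap_comp, CommRingCat.hom_comp, RingHom.coe_comp] at h1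
    exact (Function.Bijective.of_comp_iff' h2 _).1 h1
  · have h : ((π ⁻¹ᵁ V).ι ≫ π) ⟨e', (he'.symm ▸ he : π e' ≠ x)⟩ = ((π ⁻¹ᵁ V).ι ≫ π) ⟨e, he⟩ := he'
    exact congrArg (fun w : ↥(π ⁻¹ᵁ V) => (π ⁻¹ᵁ V).ι w) (((π ⁻¹ᵁ V).ι ≫ π).isEmbedding.injective h)

include hπ hdim in
theorem surjective_blowUp [IsProper π] : Function.Surjective π := by
  let V : X.Opens := ⟨({x} : Set X)ᶜ, hx.isOpen_compl⟩
  haveI : IsIso (π ∣_ V) := EffCartLib.isIso_off_center _ π hπ V fun z hz => by
    show z ∉ ((Scheme.IdealSheafData.vanishingIdeal (⟨{x}, hx⟩ : Closeds X)).support : Set X)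
    rw [Scheme.IdealSheafData.coe_support_vanishingIdeal]
    exact hz
  obtain ⟨w, hw⟩ := (π ∣_ V).surjective ⟨genericPoint X, genericPoint_ne hx hdim⟩
  have hη : genericPoint X ∈ Set.range π := ⟨w.1, (morphismRestrict_base_coe π V w).symm.trans (congrArg Subtype.val hw)⟩
  exact fun z => ((genericPoint_spec X).specializes (trivial : z ∈ Set.univ)).mem_closed π.isClosedMap.isClosed_range hη

variable {δ : X → ℤ} (hδ : Cyc.DeltaCompat p δ (fun _ => 0)) {δ' : X' → ℤ}
  (hδ' : Cyc.DeltaCompat (π ≫ p) δ' (fun _ => 0))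

include hπ hδ hδ' in
omit [IsAlgClosed k] [CharZero k] [Smooth p] [IsIntegral X] in
theorem delta_off [IsProper π] (e : X') (he : π e ≠ x) :
    δ' e = δ (π e) ∧ (AlgebraicCycle.mapCoeff π δ' δ e : ℤ) = 1 := by
  have hb := (off_center hx hπ e he).1
  obtain ⟨n, hn, hn'⟩ := CycBivLib.deltaCompat_cancel π p rfl hδ hδ' e
  have hδe : δ' e = δ (π e) := by
    letI := (π.residueFieldMap e).hom.toAlgebra
    haveI : Algebra.IsAlgebraic (X.residueField (π e)) (X'.residueField e) :=
      ⟨fun a => by obtain ⟨c, rfl⟩ := hb.2 a; exact isAlgebraic_algebraMap c⟩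
    rw [trdeg_eq_zero_iff.2 inferInstance] at hn
    have : n = 0 := by exact_mod_cast hn.symm
    omega
  refine ⟨hδe, ?_⟩
  rw [AlgebraicCycle.mapCoeff, if_pos hδe, CycPBLib.residueDegree_eq_one_of_bijective π e hb]
  rfl

include hπ hδ hδ' in
omit [IsAlgClosed k] [CharZero k] [Smooth p] in
/-- A rational function on a curve lifts to its strict transform. -/
theorem exists_lift_div [IsProper π] (hsurj : Function.Surjective π) (ξ : X) (hξ : ξ ≠ x) (f : X.residueField ξ)
    (hf : f ≠ 0) :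
    ∃ (ξ' : X') (f' : X'.residueField ξ'), δ' ξ' = δ ξ ∧ f' ≠ 0 ∧
      ∀ e, π e ≠ x → Cyc.divFun δ' ξ' f' e = Cyc.divFun δ ξ f (π e) := by
  obtain ⟨ξ', rfl⟩ := hsurj ξ
  have hb := (off_center hx hπ ξ' hξ).1
  have hf' : π.residueFieldMap ξ' f ≠ 0 := fun h => hf (hb.1 (h.trans (map_zero _).symm))
  refine ⟨ξ', π.residueFieldMap ξ' f, (delta_off p hx hπ hδ hδ' ξ' hξ).1, hf', fun e he => ?_⟩
  have hS := CycBivLib.isSetup_of_lft p CycC1Lib.isSetup_field hδ
  have hS' := CycBivLib.isSetup_of_lft (π ≫ p) CycC1Lib.isSetup_field hδ'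
  have h := CycPushLib.pushSum_divFun hS' hS π (CycBivLib.deltaCompat_cancel π p rfl hδ hδ') ξ' hf' (π e)
  rw [show (π.base : X' → X) ⁻¹' {π e} = {e} from Set.ext fun e' => ⟨fun h' => (off_center hx hπ e he).2 e' h',
    fun h' => congrArg _ h'⟩, finsum_mem_singleton, (delta_off p hx hπ hδ hδ' e he).2, mul_one,
    if_pos (delta_off p hx hπ hδ hδ' ξ' hξ).1.symm] at h
  rw [h]
  congr 1
  letI := (π.residueFieldMap ξ').hom.toAlgebra
  show Algebra.norm (X.residueField (π ξ')) (algebraMap (X.residueField (π ξ')) (X'.residueField ξ') f) = f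
  rw [Algebra.norm_algebraMap,
    ← (LinearEquiv.ofBijective (Algebra.linearMap (X.residueField (π ξ')) (X'.residueField ξ')) hb).finrank_eq,
    Module.finrank_self, pow_one]

include hπ hdim hδ hδ' in
/-- **Push-forward along the blow-up of a point is bijective on classes of zero-cycles.** -/
theorem chowZero_bijective [IsProper π] :
    (∀ z : AlgebraicCycle X' ℤ, z ∈ Cyc.Zk X' δ' 0 →
        Cyc.RatEquivZero δ 0 (AlgebraicCycle.map π δ' δ z) → Cyc.RatEquivZero δ' 0 z) ∧
      ∀ α : AlgebraicCycle X ℤ, α ∈ Cyc.Zk X δ 0 →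
        ∃ z : AlgebraicCycle X' ℤ, z ∈ Cyc.Zk X' δ' 0 ∧ Cyc.RatEquiv δ 0 (AlgebraicCycle.map π δ' δ z) α := by
  classical
  have hS := CycBivLib.isSetup_of_lft p CycC1Lib.isSetup_field hδ
  have hS' := CycBivLib.isSetup_of_lft (π ≫ p) CycC1Lib.isSetup_field hδ'
  haveI : IsLocallyNoetherian X := LocallyOfFiniteType.isLocallyNoetherian p
  haveI : CompactSpace X := QuasiCompact.compactSpace_of_compactSpace p
  haveI : CompactSpace X' := QuasiCompact.compactSpace_of_compactSpace (π ≫ p)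
  haveI : JacobsonSpace X' := LocallyOfFiniteType.jacobsonSpace (π ≫ p)
  have hsurj := surjective_blowUp hx hdim hπ
  have hclfin : ∀ {Y : Scheme.{u}} [CompactSpace Y] (c : AlgebraicCycle Y ℤ), (Function.support ⇑c).Finite :=
    fun {Y} _ c => by
      simpa using (Function.locallyFinsupp.locallyFiniteSupport c).finite_inter_support_of_isCompact isCompact_univ
  obtain ⟨e₀, he₀, he₀c⟩ := nonempty_inter_closedPoints (Z := π ⁻¹' {x}) (hsurj x)
    (hx.preimage π.continuous).isLocallyClosed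
  have hδe₀ : δ' e₀ = 0 := MoveZeroLib.delta_closed (π ≫ p) hδ' he₀c
  refine ⟨fun z hz hrat => ?_, fun α hα => ?_⟩
  swap
  · have hδcoef : (AlgebraicCycle.mapCoeff π δ' δ e₀ : ℤ) = 1 := by
      have h := DFunLike.congr_fun (RatCurveChainLib.map_pt π p rfl hδ' hδ he₀c) x
      change ∑ᶠ a ∈ (π.base : X' → X) ⁻¹' {x}, pt e₀ a * (AlgebraicCycle.mapCoeff π δ' δ a : ℤ) = pt (π e₀) x at h
      rw [show π e₀ = x from he₀, pt_self, finsum_mem_def, finsum_eq_single _ e₀ fun a ha => by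
        rw [Set.indicator_apply]; split_ifs <;> [rw [pt_ne ha, zero_mul]; rfl],
        Set.indicator_of_mem (show e₀ ∈ (π.base : X' → X) ⁻¹' {x} from he₀), pt_self, one_mul] at h
      exact h
    let zf : X' → ℤ := fun e => if π e = x then (if e = e₀ then α x else 0) else α (π e)
    have hzfin : (Function.support zf).Finite := by
      refine (((hclfin α).biUnion fun w _ => ?_).union (Set.finite_singleton e₀)).subset
        (s := (⋃ w ∈ Function.support ⇑α, {e | π e = w ∧ π e ≠ x}) ∪ {e₀}) fun e he => ?_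
      · refine Set.Subsingleton.finite fun a ha b hb => ?_
        exact ((off_center hx hπ a ha.2).2 b (hb.1.trans ha.1.symm)).symm
      · by_cases h : π e = x
        · refine Or.inr ?_
          by_contra h'
          exact he (by simp only [zf, if_pos h, if_neg (show e ≠ e₀ from h')])
        · refine Or.inl (Set.mem_biUnion (x := π e) ?_ ⟨rfl, h⟩)
          simpa [zf, h] using he
    let z : AlgebraicCycle X' ℤ :=
      { toFun := zf
        supportWithinDomain' := fun _ _ => trivial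
        supportLocallyFiniteWithinDomain' := fun _ _ => ⟨Set.univ, Filter.univ_mem, hzfin.subset Set.inter_subset_right⟩ }
    refine ⟨z, fun e he => ?_, ?_⟩
    · show zf e = 0
      simp only [zf]
      split_ifs with h1 h2
      · exact absurd (h2 ▸ hδe₀) he
      · rfl
      · exact hα _ fun h => he ((delta_off p hx hπ hδ hδ' e h1).1.trans h)
    · have : AlgebraicCycle.map π δ' δ z = α := DFunLike.ext _ _ fun w => by
        show ∑ᶠ a ∈ (π.base : X' → X) ⁻¹' {w}, zf a * (AlgebraicCycle.mapCoeff π δ' δ a : ℤ) = α w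
        by_cases hw : w = x
        · subst hw
          rw [finsum_mem_def, finsum_eq_single _ e₀ fun a ha => by
            rw [Set.indicator_apply]
            split_ifs with h
            · simp only [zf, if_pos (show π a = w from h), if_neg ha, zero_mul]
            · rfl,
            Set.indicator_of_mem (show e₀ ∈ (π.base : X' → X) ⁻¹' {w} from he₀), hδcoef, mul_one]
          simp only [zf, if_pos (show π e₀ = w from he₀), if_true]
        · obtain ⟨e, rfl⟩ := hsurj w
          rw [show (π.base : X' → X) ⁻¹' {π e} = {e} from Set.ext fun e' => ⟨fun h' => (off_center hx hπ e hw).2 e' h',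
            fun h' => congrArg _ h'⟩, finsum_mem_singleton, (delta_off p hx hπ hδ hδ' e hw).2, mul_one]
          simp only [zf, if_neg hw]
      rw [this]
      exact CycCommLib.ratEquiv_refl _
  -- lift the relations
  obtain ⟨ι, ξ, f, hξ, hf, hlf, hsum⟩ := hrat
  haveI : Finite ι := by
    choose W hWo hxW hWf using hlf
    obtain ⟨t, ht⟩ := isCompact_univ.elim_finite_subcover W hWo fun y _ => Set.mem_iUnion.2 ⟨y, hxW y⟩
    have hall : (Set.univ : Set ι) ⊆ ⋃ y ∈ t, {i | (closure {ξ i} ∩ W y).Nonempty} := fun i _ => by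
      obtain ⟨y, hy, hiy⟩ := Set.mem_iUnion₂.1 (ht (Set.mem_univ (ξ i)))
      exact Set.mem_biUnion hy ⟨ξ i, subset_closure rfl, hiy⟩
    exact Set.finite_univ_iff.1 ((t.finite_toSet.biUnion fun y _ => hWf y).subset hall)
  haveI : Fintype ι := Fintype.ofFinite ι
  have hξx : ∀ i, ξ i ≠ x := fun i h => by
    have h0 := hξ i
    rw [h, MoveZeroLib.delta_closed p hδ hx] at h0
    omega
  choose ξ' f' hξ' hf' hdiv using fun i => exists_lift_div p hx hπ hδ hδ' hsurj (ξ i) (hξx i) (f i) (hf i)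
  let D : AlgebraicCycle X' ℤ := ∑ i, CycPushLib.divCyc hS' (ξ' i) (hf' i)
  have hDeval : ∀ e, D e = ∑ i, Cyc.divFun δ' (ξ' i) (f' i) e := fun e => by
    show (∑ i, CycPushLib.divCyc hS' (ξ' i) (hf' i) : AlgebraicCycle X' ℤ) e = _
    rw [Function.locallyFinsuppWithin.coe_sum, Finset.sum_apply]
    rfl
  let R : AddSubgroup (AlgebraicCycle X' ℤ) :=
    { carrier := {α | α ∈ Cyc.Zk X' δ' 0 ∧ Cyc.RatEquivZero δ' 0 α}
      add_mem' := fun {a b} ha hb => ⟨fun w hw => by simp [ha.1 w hw, hb.1 w hw],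
        CycCommLib.ratEquivZero_add hS' ha.2 hb.2 fun _ => rfl⟩
      zero_mem' := ⟨fun _ _ => rfl, CycCommLib.ratEquivZero_of_forall_eq_zero fun _ => rfl⟩
      neg_mem' := fun {a} ha => ⟨fun w hw => by simp [ha.1 w hw], CycCommLib.ratEquivZero_neg hS' ha.2 fun _ => rfl⟩ }
  have hDR : D ∈ R := by
    refine ⟨fun e he => ?_, ι, ξ', f', fun i => (hξ' i).trans (hξ i), hf',
      fun e => ⟨Set.univ, isOpen_univ, trivial, Set.toFinite _⟩,
      fun e => by rw [hDeval, finsum_eq_sum_of_fintype]⟩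
    rw [hDeval]
    refine Finset.sum_eq_zero fun i _ => ?_
    rw [Cyc.divFun, dif_neg fun h => he (by have h' := h.2; rw [hξ' i, hξ i] at h'; omega)]
  -- what remains lives on the exceptional fibre
  have hz1 : ∀ e, π e ≠ x → (z - D) e = 0 := fun e he => by
    have h1 := hsum (π e)
    change (∑ᶠ a ∈ (π.base : X' → X) ⁻¹' {π e}, z a * (AlgebraicCycle.mapCoeff π δ' δ a : ℤ)) = _ at h1
    rw [show (π.base : X' → X) ⁻¹' {π e} = {e} from Set.ext fun e' => ⟨fun h' => (off_center hx hπ e he).2 e' h',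
      fun h' => congrArg _ h'⟩, finsum_mem_singleton, (delta_off p hx hπ hδ hδ' e he).2, mul_one,
      finsum_eq_sum_of_fintype] at h1
    simp only [Function.locallyFinsuppWithin.coe_sub, Pi.sub_apply, hDeval, hdiv _ e he, h1, sub_self]
  have hz1k : z - D ∈ Cyc.Zk X' δ' 0 := fun e he => by simp [hz e he, hDR.1 e he]
  obtain ⟨m, h, hhp, hhk, hrange⟩ := exists_exceptional_iso p hx hdim hπ
  haveI := hhp
  haveI : IsProper (CohB1.ProjSpace.toSpec m k) := ProjDegLib.toSpec_isProper k m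
  haveI : JacobsonSpace (CohB1.ProjSpace m k) := LocallyOfFiniteType.jacobsonSpace (CohB1.ProjSpace.toSpec m k)
  obtain ⟨δP, hδP⟩ := CycAffLib.exists_deltaCompat (CohB1.ProjSpace.toSpec m k) (fun _ => (0 : ℤ))
  have hfib : ∀ e, IsClosed ({e} : Set X') → π e = x → (pt e - pt e₀ : AlgebraicCycle X' ℤ) ∈ R := by
    intro e he hex
    have hl : ∀ w, IsClosed ({w} : Set X') → π w = x → ∃ c, IsClosed ({c} : Set (CohB1.ProjSpace m k)) ∧ h c = w :=
      fun w hw hwx => by
        obtain ⟨c₀, hc₀⟩ := hrange.ge (show w ∈ π ⁻¹' {x} from hwx)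
        obtain ⟨c, hc, hcc⟩ := nonempty_inter_closedPoints (Z := h ⁻¹' {w}) ⟨c₀, hc₀⟩
          (hw.preimage h.continuous).isLocallyClosed
        exact ⟨c, hcc, hc⟩
    obtain ⟨c, hc, rfl⟩ := hl e he hex
    obtain ⟨c₁, hc₁, rfl⟩ := hl e₀ he₀c he₀
    have h1 := Groth.Agent.S1855.result _ _ δP δ'
      (CycBivLib.isSetup_of_lft (CohB1.ProjSpace.toSpec m k) CycC1Lib.isSetup_field hδP) hS' h
      (CycBivLib.deltaCompat_cancel h (π ≫ p) hhk hδ' hδP) 0 _ _
      (pt_mem_zk (MoveZeroLib.delta_closed _ hδP hc)) (pt_mem_zk (MoveZeroLib.delta_closed _ hδP hc₁))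
      (pn_ratEquiv hδP hc hc₁)
    rw [RatCurveChainLib.map_pt h (π ≫ p) hhk hδP hδ' hc, RatCurveChainLib.map_pt h (π ≫ p) hhk hδP hδ' hc₁] at h1
    exact ⟨fun w hw => by
      simp [pt_mem_zk (MoveZeroLib.delta_closed (π ≫ p) hδ' he) w hw, pt_mem_zk hδe₀ w hw], h1⟩
  let z1 : AlgebraicCycle X' ℤ := z - D
  have hfin := hclfin z1
  let n : ℤ := ∑ e ∈ hfin.toFinset, z1 e
  have hpts : z1 - n • pt e₀ ∈ R := by
    have heq : z1 - n • pt e₀ = ∑ e ∈ hfin.toFinset, z1 e • (pt e - pt e₀) := by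
      simp only [smul_sub, Finset.sum_sub_distrib, ← Finset.sum_smul, n]
      congr 1
      refine DFunLike.ext _ _ fun y => ?_
      rw [Function.locallyFinsuppWithin.coe_sum, Finset.sum_apply, Finset.sum_eq_single y]
      · simp [pt_self]
      · intro e _ hey
        simp [pt_ne (Ne.symm hey)]
      · intro hy
        simp only [Set.Finite.mem_toFinset, Function.mem_support, not_not] at hy
        simp [hy]
    rw [heq]
    refine sum_mem fun e he => R.zsmul_mem (hfib e ?_ ?_) _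
    · exact (AlgEqPointLib.closed_of_delta_zero (π ≫ p) hδ' (by_contra fun h' => hfin.mem_toFinset.1 he (hz1k e h'))).1
    · exact by_contra fun h' => hfin.mem_toFinset.1 he (hz1 e h')
  have hzn : (z - n • pt e₀ : AlgebraicCycle X' ℤ) ∈ R := by
    have := R.add_mem hpts hDR
    rwa [show z1 - n • pt e₀ + D = z - n • pt e₀ by simp only [z1]; abel] at this
  have hnk : n • pt e₀ ∈ Cyc.Zk X' δ' 0 := fun w hw => by simp [pt_mem_zk hδe₀ w hw]
  have h2 := Groth.Agent.S1855.result _ _ δ' δ hS' hS π (CycBivLib.deltaCompat_cancel π p rfl hδ hδ') 0 z _ hz hnk hzn.2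
  rw [map_zsmul_pt π p rfl hδ' hδ n he₀c, show π e₀ = x from he₀] at h2
  have hxk : n • pt x ∈ Cyc.Zk X δ 0 := fun w hw => by
    simp [pt_mem_zk (MoveZeroLib.delta_closed p hδ hx) w hw]
  have hmk : AlgebraicCycle.map π δ' δ z ∈ Cyc.Zk X δ 0 := fun w hw => by
    show ∑ᶠ a ∈ (π.base : X' → X) ⁻¹' {w}, z a * (AlgebraicCycle.mapCoeff π δ' δ a : ℤ) = 0
    refine finsum_mem_eq_zero_of_forall_eq_zero fun a (ha : π a = w) => ?_
    by_cases hb : δ' a = 0
    · rw [AlgebraicCycle.mapCoeff, if_neg (by show ¬ δ' a = δ (π a); rw [ha, hb]; exact fun e => hw e.symm)]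
      simp
    · rw [hz a hb, zero_mul]
  have hn0 : Cyc.RatEquiv δ 0 (n • pt x) ((0 : ℤ) • pt x) := by
    refine CycCommLib.ratEquiv_trans hS (CycCommLib.ratEquiv_symm hS h2) ?_
    show Cyc.RatEquivZero δ 0 _
    rw [zero_smul, sub_zero]
    exact ⟨ι, ξ, f, hξ, hf, fun y => ⟨Set.univ, isOpen_univ, trivial, Set.toFinite _⟩, hsum⟩
  have hxk0 : (0 : ℤ) • pt x ∈ Cyc.Zk X δ 0 := fun w hw => by simp
  have hdeg := Groth.Agent.S1855.result _ _ δ (fun _ => (0 : ℤ)) hS CycC1Lib.isSetup_field p hδ 0 _ _ hxk hxk0 hn0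
  have hpt0 : Cyc.DeltaCompat (𝟙 (Spec (CommRingCat.of k))) (fun _ => (0 : ℤ)) (fun _ => 0) := fun w => by
    refine ⟨0, ?_, by simp⟩
    exact CycPushLib.trdeg_preimmersion_left (𝟙 (Spec (CommRingCat.of k))) w
  rw [map_zsmul_pt p (𝟙 _) (Category.comp_id p) hδ hpt0 n hx, map_zsmul_pt p (𝟙 _) (Category.comp_id p) hδ hpt0 0 hx]
    at hdeg
  have h3 := DFunLike.congr_fun (RatCurveChainLib.eq_of_ratEquiv_point hdeg) (p x)
  simp [pt_self] at h3
  have := hzn.2
  rwa [h3, zero_smul, sub_zero] at this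

end PointBlowChowLib
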